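-- Team project LSF (S5286): package [INV] (helper46).
import Mathlib
import Cfsg.Agent.Lib.Helper67.LSF.Defs

set_option autoImplicit false

namespace Cfsg.Agent.Lib.Helper46.LSF

open Cfsg Cfsg.Agent.Lib.Helper67.LSF

universe u

/-- Inversion of paths, all three shapes of the word at once. -/
theorem inv_aux {Ω : Type u} [Group Ω] {S : Subgroup Ω} (F : FusionSystem S)
    (L : List (X F × Bool)) (q : Equiv.Perm S) (h : Path F L q) :
    (L = [] → ∃ s : S, q = lam S s) ∧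
    (∀ (x : X F) (L' : List (X F × Bool)), L = (x, true) :: L' →
      ∃ (i : Idx F) (s : S) (q₀ : Equiv.Perm S), Path F L' q₀ ∧
        x = ⟨i, ((q₀⁻¹ : Equiv.Perm S) : Equiv.Perm S ⧸ Lam i)⟩ ∧ q = lam S s * i.σ * q₀) ∧
    (∀ (x : X F) (L' : List (X F × Bool)), L = (x, false) :: L' →
      ∃ (i : Idx F) (s : S) (q₀ : Equiv.Perm S), Path F L' q₀ ∧
        x = ⟨i, ((q₀⁻¹ * i.σ : Equiv.Perm S) : Equiv.Perm S ⧸ Lam i)⟩ ∧
          q = lam S s * i.σ⁻¹ * q₀) := by
  induction h with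
  | nil s =>
    refine ⟨fun _ => ⟨s, rfl⟩, ?_, ?_⟩
    · intro x L' hL
      exact absurd hL.symm (List.cons_ne_nil _ _)
    · intro x L' hL
      exact absurd hL.symm (List.cons_ne_nil _ _)
  | a s hp ih =>
    refine ⟨?_, ?_, ?_⟩
    · intro hL
      obtain ⟨s', hs'⟩ := ih.1 hL
      exact ⟨s * s', by rw [hs', map_mul]⟩
    · intro x L' hL
      obtain ⟨i, s', q₀, hp₀, hx, hq⟩ := ih.2.1 x L' hL
      exact ⟨i, s * s', q₀, hp₀, hx, by rw [hq, map_mul]; simp only [mul_assoc]⟩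
    · intro x L' hL
      obtain ⟨i, s', q₀, hp₀, hx, hq⟩ := ih.2.2 x L' hL
      exact ⟨i, s * s', q₀, hp₀, hx, by rw [hq, map_mul]; simp only [mul_assoc]⟩
  | t i hp ih =>
    refine ⟨?_, ?_, ?_⟩
    · intro hL
      exact absurd hL (List.cons_ne_nil _ _)
    · intro x L' hL
      rw [List.cons.injEq, Prod.mk.injEq] at hL
      obtain ⟨⟨hx, -⟩, hL'⟩ := hL
      subst hL'
      exact ⟨i, 1, _, hp, hx.symm, by rw [map_one, one_mul]⟩
    · intro x L' hL
      rw [List.cons.injEq, Prod.mk.injEq] at hL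
      exact absurd hL.1.2 (by decide)
  | t' i hp ih =>
    refine ⟨?_, ?_, ?_⟩
    · intro hL
      exact absurd hL (List.cons_ne_nil _ _)
    · intro x L' hL
      rw [List.cons.injEq, Prod.mk.injEq] at hL
      exact absurd hL.1.2 (by decide)
    · intro x L' hL
      rw [List.cons.injEq, Prod.mk.injEq] at hL
      obtain ⟨⟨hx, -⟩, hL'⟩ := hL
      subst hL'
      exact ⟨i, 1, _, hp, hx.symm, by rw [map_one, one_mul]⟩

/-- [INV] -/
theorem pkgInv : PkgInv.{u} := by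
  intro Ω _ S F
  refine ⟨?_, ?_, ?_⟩
  · intro q h
    exact (inv_aux F [] q h).1 rfl
  · intro x L q h
    exact (inv_aux F _ q h).2.1 x L rfl
  · intro x L q h
    exact (inv_aux F _ q h).2.2 x L rfl

end Cfsg.Agent.Lib.Helper46.LSF
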